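import Mathlib
import Groth.Prelude.Def_CAlg
import Groth.Agent.GorLib.Faltings
import Groth.Agent.Depth.Basic

/-!
# Presentations of depth one modules over a plane hypersurface
-/

set_option autoImplicit false
universe u
open CategoryTheory

noncomputable section

namespace Groth.Agent.PlanarLib

/-- Elements killed by a power of the maximal ideal vanish when some element of it is regular. -/
theorem eq_zero_of_pow_smul {R N : Type u} [CommRing R] [IsLocalRing R] [AddCommGroup N] [Module R N] {y : R}
    (hy : y ∈ IsLocalRing.maximalIdeal R) (hyN : IsSMulRegular N y) (n : ℕ) {z : N}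
    (hz : ∀ a ∈ IsLocalRing.maximalIdeal R ^ n, a • z = 0) : z = 0 :=
  (hyN.pow n) (by simpa using hz (y ^ n) (Ideal.pow_mem_pow hy n))

theorem killed_of_sup {R N : Type u} [CommRing R] [IsLocalRing R] [AddCommGroup N] [Module R N] {I J : Ideal R} {n : ℕ}
    (hIJ : IsLocalRing.maximalIdeal R ^ n ≤ I ⊔ J) {z : N} (hI : ∀ i ∈ I, i • z = 0) (hJ : ∀ j ∈ J, j • z = 0) :
    ∀ a ∈ IsLocalRing.maximalIdeal R ^ n, a • z = 0 := fun a ha => by
  obtain ⟨i, hi, j, hj, rfl⟩ := Submodule.mem_sup.mp (hIJ ha)
  rw [add_smul, hI i hi, hJ j hj, add_zero]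

theorem dual_eq_zero {R N : Type u} [CommRing R] [IsLocalRing R] [IsReduced R] [AddCommGroup N] [Module R N] {y : R}
    (hy : y ∈ IsLocalRing.maximalIdeal R) (hyN : IsSMulRegular N y) (n : ℕ) {φ : Module.Dual R N}
    (hφ : ∀ a ∈ IsLocalRing.maximalIdeal R ^ n, a • φ = 0) : φ = 0 := by
  refine LinearMap.ext fun x => ?_
  have h : ∀ a ∈ IsLocalRing.maximalIdeal R ^ n, a * φ x = 0 := fun a ha => by
    simpa using LinearMap.congr_fun (hφ a ha) x
  by_cases hu : IsUnit (φ x)
  · have hy0 : y = 0 :=
      IsReduced.eq_zero y ⟨n, hu.mul_left_eq_zero.mp (h _ (Ideal.pow_mem_pow hy n))⟩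
    have : x = 0 := hyN (show y • x = y • 0 by simp [hy0])
    simp [this]
  · exact IsReduced.eq_zero _ ⟨n + 1, by
      rw [pow_succ]; exact h _ (Ideal.pow_mem_pow ((IsLocalRing.mem_maximalIdeal _).mpr hu) n)⟩

/-- A module of positive depth over a two dimensional regular ring has a square presentation which every
annihilator splits. -/
theorem exists_pres {S R M : Type u} [CommRing S] [IsRegularLocalRing S] (hS : ringKrullDim S = 2) [CommRing R]
    [IsLocalRing R] (π : S →+* R) (hπ : Function.Surjective π) [AddCommGroup M] [Module R M] [Module.Finite R M]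
    {x : R} (hx : x ∈ IsLocalRing.maximalIdeal R) (hxM : IsSMulRegular M x) :
    ∃ (a r : ℕ) (g : (Fin a → R) →ₗ[R] M) (φ : (Fin r → R) →ₗ[R] (Fin a → R)),
      Function.Surjective g ∧ Function.Exact φ g ∧
      ∀ i ∈ Module.annihilator R M, ∃ h : (Fin a → R) →ₗ[R] (Fin r → R), ∀ z, h (φ z) = i • z := by
  classical
  letI : Algebra S R := π.toAlgebra
  letI : Module S M := Module.compHom M π
  haveI : IsScalarTower S R M := IsScalarTower.of_algebraMap_smul fun _ _ => rfl
  have hπ' : Function.Surjective (algebraMap S R) := hπ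
  haveI : Module.Finite S R := Module.Finite.of_surjective (Algebra.linearMap S R) hπ'
  haveI : Module.Finite S M := Module.Finite.trans R M
  obtain ⟨a, m, hm⟩ := Module.Finite.exists_fin' S M
  let K := LinearMap.ker m
  have hdepth : ((1 : ℕ) : ℕ∞) ≤ LocCoh.depth S M := by
    obtain ⟨x', hx'⟩ := hπ' x
    have hxm : x' ∈ IsLocalRing.maximalIdeal S := (IsLocalRing.mem_maximalIdeal _).mpr fun hu =>
      (IsLocalRing.mem_maximalIdeal _).mp hx (hx' ▸ hu.map _)
    by_cases htop : IsLocalRing.maximalIdeal S • (⊤ : Submodule S M) = ⊤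
    · rw [LocCoh.depth, LocCoh.idealDepth, if_pos htop]; exact le_top
    · refine (Depth.le_idealDepth_iff htop 1).mpr ⟨[x'], rfl, by simpa using hxm, ?_⟩
      rw [RingTheory.Sequence.isWeaklyRegular_singleton_iff]
      intro u v huv
      exact hxM (by
        show x • u = x • v
        rw [← hx', algebraMap_smul, algebraMap_smul]; exact huv)
  haveI hpd : HasProjectiveDimensionLE (ModuleCat.of S M) 1 :=
    GorLib.hasProjectiveDimensionLE_of_depth S 2 1 hS M hdepth
  let SC : ShortComplex (ModuleCat.{u} S) := ShortComplex.mk (ModuleCat.ofHom K.subtype) (ModuleCat.ofHom m)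
    (by ext v; exact v.2)
  have hSC : SC.ShortExact :=
    { exact := (ShortComplex.ShortExact.moduleCat_exact_iff_function_exact _).mpr (LinearMap.exact_subtype_ker_map m)
      mono_f := (ModuleCat.mono_iff_injective _).mpr K.injective_subtype
      epi_g := (ModuleCat.epi_iff_surjective _).mpr hm }
  haveI : Projective (ModuleCat.of S (Fin a → S)) := inferInstance
  haveI : HasProjectiveDimensionLT SC.X₁ 1 := hSC.hasProjectiveDimensionLT_X₁ 1
    (inferInstanceAs (HasProjectiveDimensionLT (ModuleCat.of S (Fin a → S)) 1)) hpd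
  haveI : Module.Projective S K :=
    (IsProjective.iff_projective _).mpr (projective_iff_hasProjectiveDimensionLT_one.mpr ‹_›)
  haveI : Module.Free S K := Module.free_of_flat_of_isLocalRing
  let b := (Module.Free.chooseBasis S K).reindex (Fintype.equivFin _)
  let φ₀ : (Fin (Fintype.card (Module.Free.ChooseBasisIndex S K)) → S) →ₗ[S] (Fin a → S) :=
    K.subtype.comp b.equivFun.symm.toLinearMap
  let φ : (Fin (Fintype.card (Module.Free.ChooseBasisIndex S K)) → R) →ₗ[R] (Fin a → R) :=
    Fintype.linearCombination R fun j i => algebraMap S R (φ₀ (Pi.single j 1) i)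
  let g : (Fin a → R) →ₗ[R] M := Fintype.linearCombination R fun i => m (Pi.single i 1)
  have hg : ∀ v : Fin a → S, g (fun i => algebraMap S R (v i)) = m v := fun v => by
    conv_rhs => rw [pi_eq_sum_univ' v, map_sum]
    simp [g, Fintype.linearCombination_apply, map_smul, algebraMap_smul]
  have hφ : ∀ v, φ (fun j => algebraMap S R (v j)) = fun i => algebraMap S R (φ₀ v i) := fun v => by
    funext i
    conv_rhs => rw [pi_eq_sum_univ' v, map_sum]
    simp only [map_smul, Finset.sum_apply, Pi.smul_apply, smul_eq_mul, map_sum, map_mul]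
    simp [φ, Fintype.linearCombination_apply, Finset.sum_apply, Algebra.smul_def]
  have hlift : ∀ {k : ℕ} (w : Fin k → R), ∃ v : Fin k → S, (fun i => algebraMap S R (v i)) = w := fun w => by
    choose v hv using fun i => hπ' (w i)
    exact ⟨v, funext hv⟩
  refine ⟨a, _, g, φ, fun y => ?_, fun w => ?_, fun i hi => ?_⟩
  · obtain ⟨v, rfl⟩ := hm y
    exact ⟨_, hg v⟩
  · obtain ⟨v, rfl⟩ := hlift w
    constructor
    · intro hw
      rw [hg] at hw
      refine ⟨fun j => algebraMap S R (b.equivFun ⟨v, hw⟩ j), ?_⟩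
      rw [hφ]
      simp [φ₀]
    · rintro ⟨z, hz⟩
      obtain ⟨u, rfl⟩ := hlift z
      rw [← hz, hφ, hg]
      exact (b.equivFun.symm u).2
  · obtain ⟨i', rfl⟩ := hπ' i
    have hK : ∀ v : Fin a → S, i' • v ∈ K := fun v => by
      rw [LinearMap.mem_ker, map_smul, ← algebraMap_smul R i' (m v)]
      exact Module.mem_annihilator.mp hi (m v)
    let h₀ : (Fin a → S) →ₗ[S] (Fin (Fintype.card (Module.Free.ChooseBasisIndex S K)) → S) :=
      b.equivFun.toLinearMap.comp ((i' • LinearMap.id : (Fin a → S) →ₗ[S] Fin a → S).codRestrict K hK)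
    let h : (Fin a → R) →ₗ[R] (Fin (Fintype.card (Module.Free.ChooseBasisIndex S K)) → R) :=
      Fintype.linearCombination R fun l j => algebraMap S R (h₀ (Pi.single l 1) j)
    have hh : ∀ v, h (fun l => algebraMap S R (v l)) = fun j => algebraMap S R (h₀ v j) := fun v => by
      funext j
      conv_rhs => rw [pi_eq_sum_univ' v, map_sum]
      simp only [map_smul, Finset.sum_apply, Pi.smul_apply, smul_eq_mul, map_sum, map_mul]
      simp [h, Fintype.linearCombination_apply, Finset.sum_apply, Algebra.smul_def]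
    refine ⟨h, fun z => ?_⟩
    obtain ⟨v, rfl⟩ := hlift z
    have h0 : h₀ (φ₀ v) = i' • v := by
      have : (i' • LinearMap.id : (Fin a → S) →ₗ[S] Fin a → S).codRestrict K hK (φ₀ v) = i' • b.equivFun.symm v :=
        Subtype.ext rfl
      simp only [h₀, LinearMap.comp_apply, LinearEquiv.coe_coe, this, map_smul, LinearEquiv.apply_symm_apply]
    rw [hφ, hh, h0]
    funext j
    simp [map_mul]

end Groth.Agent.PlanarLib
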